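import Mathlib
import Groth.Agent.Lib.Helper4.ZeroDim
import Groth.Agent.Lib.Helper4.IntegralDim
import Groth.Agent.Lib.Helper4.FibDimBC1
import Groth.Agent.Lib.Helper2.FibDim.LowerSemi

set_option autoImplicit false
set_option linter.style.haveILetI false
set_option linter.unusedVariables false
set_option linter.unusedSectionVars false
set_option backward.isDefEq.respectTransparency.types false

open CategoryTheory CategoryTheory.Limits AlgebraicGeometry Opposite Topology TopologicalSpace

universe u

/-! helper7: a flat proper morphism locally of finite presentation which is finite over a dense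
open subset of the target is finite (by lower semicontinuity of the fibre dimension of flat
morphisms). -/

namespace Groth.Agent.Helper7.FlatFin

/-- the fibres of a finite morphism have dimension at most zero. -/
theorem dim_fiber_le_zero_of_isFinite {X S : Scheme.{u}} (f : X ⟶ S) [IsFinite f] (s : S) :
    topologicalKrullDim ↥(f.fiber s) ≤ 0 := by
  haveI : IsFinite (f.fiberToSpecResidueField s) :=
    MorphismProperty.pullback_snd (P := @IsFinite) _ _ inferInstance
  have h1 := (Groth.Agent.Lib.Helper4.IntegralDim.S9683_main (f.fiberToSpecResidueField s)).1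
  refine h1.trans ?_
  show topologicalKrullDim (PrimeSpectrum (S.residueField s)) ≤ 0
  rw [PrimeSpectrum.topologicalKrullDim_eq_ringKrullDim, ringKrullDim_eq_zero_of_field]

/-- a flat proper morphism locally of finite presentation which is finite over a dense open is
finite. -/
theorem isFinite_of_dense {X S : Scheme.{u}} (f : X ⟶ S) [Flat f] [IsProper f]
    [LocallyOfFinitePresentation f] (U : S.Opens) (hU : Dense (U : Set ↑S))
    [IsFinite (f ∣_ U)] : IsFinite f := by
  have hdim : ∀ s : S, topologicalKrullDim ↥(f.fiber s) ≤ 0 := by
    intro s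
    by_contra hs
    rw [not_le] at hs
    have hopen := Groth.Agent.Helper2.FibDim.S0404_main f (0 : WithBot ℕ∞)
    obtain ⟨s', hs'E, hs'U⟩ := hU.inter_open_nonempty _ hopen ⟨s, hs⟩
    have h1 := Groth.Agent.Lib.Helper4.FibDimBC1.S9777_main f U.ι (f ∣_ U) (f ⁻¹ᵁ U).ι
      (isPullback_morphismRestrict f U).flip ⟨s', hs'U⟩
    have h2 := dim_fiber_le_zero_of_isFinite (f ∣_ U) ⟨s', hs'U⟩
    rw [h1] at h2
    exact absurd hs'E (not_lt.mpr h2)
  haveI : LocallyQuasiFinite f := by
    rw [locallyQuasiFinite_iff_isFinite_fiber]
    intro s
    let φ : f.fiber s ⟶ Spec (CommRingCat.of ↑(S.residueField s)) :=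
      f.fiberToSpecResidueField s
    haveI : LocallyOfFiniteType φ :=
      MorphismProperty.pullback_snd (P := @LocallyOfFiniteType) _ _ inferInstance
    haveI : QuasiCompact φ :=
      MorphismProperty.pullback_snd (P := @QuasiCompact) _ _ inferInstance
    exact (Groth.Agent.Lib.Helper4.ZeroDim.finite_of_dim_le_zero φ (hdim s)).2.1
  exact (IsFinite.iff_isProper_and_locallyQuasiFinite f).mpr ⟨inferInstance, inferInstance⟩

end Groth.Agent.Helper7.FlatFin
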